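import Cfsg.Agent.Lib.Fus.M23U.TypeOf.Below
import Cfsg.Agent.Lib.Fus.M22U.TypeOf.Main
import Cfsg.Agent.Lib.Spor.Cos.Fi23.IsSimple
import Cfsg.Agent.Lib.Block.FischerTypes.M24Below

/-! The presented Fischer group Fi23 is of type M(23). -/

set_option autoImplicit false
set_option linter.style.haveILetI false
set_option maxRecDepth 100000
set_option maxHeartbeats 2000000

open Cfsg.Agent.Spor.Cos

namespace Cfsg.Agent.Fus.M23U.TypeOf

open Cfsg Cfsg.Agent.Block.FischerTypes
open Cfsg.Agent.Fus.M22U.TypeOf (sqForm vecOf nonempty_quot nonempty_refl_quot Derived derived_of_ok exists_code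
  sq_nondeg sq_gram polar_sq)

/-- The point of the j-th common neighbour. -/
noncomputable def pt (j : Fin 351) : Fin Fi23.actA.N :=
  ⟨ptAt j, of_decide_eq_true (Bool.and_eq_true _ _ ▸ pts_ok j).1⟩

theorem pt_inj : Function.Injective pt := by
  intro j k h
  have hj := pts_ok j
  have hk := pts_ok k
  simp only [Bool.and_eq_true, decide_eq_true_eq] at hj hk
  exact Fin.ext (by rw [← hj.2, ← hk.2, show ptAt j = ptAt k from congrArg Fin.val h])

/-- The common members. -/
def common : Set Spor.Fi23 :=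
  {y | y ∈ classD ∧ y ≠ Fi23.g 0 ∧ Commute (Fi23.g 0) y} ∩ {y | y ∈ classD ∧ y ≠ Fi23.g 1 ∧ Commute (Fi23.g 1) y}

theorem common_eq : common = Set.range fun j => dp (pt j) := by
  ext y
  constructor
  · rintro ⟨⟨hy, -, c0⟩, -, -, c1⟩
    rw [← range_dp] at hy
    obtain ⟨p, rfl⟩ := hy
    have f : ∀ i < 2, Nat.beq (Fi23.actA.im p i) p = true := by
      intro i hi
      have hc : Commute (Fi23.g i) (dp p) := by interval_cases i <;> assumption
      have h := congrArg Fin.val (commute_dp.1 hc)
      rw [show Fi23.g i = ev Fi23.g [i] by simp [ev],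
        Fi23.homA.apply_ev [i] (by simp [show i < Fi23.actA.n from by interval_cases i <;> decide])] at h
      simp only [Act.go, force_eq] at h
      rw [h]
      exact Nat.beq_refl _
    have h := member_ok p p.2
    rw [f 0 (by decide), f 1 (by decide), Bool.and_self, Bool.not_true, Bool.false_or] at h
    have hm : (p : ℕ) ∈ pts := List.contains_iff_mem.1 h
    obtain ⟨j, hj, e⟩ := List.getElem_of_mem hm
    have hlen : pts.length = 351 := by decide +kernel
    refine ⟨⟨j, hlen ▸ hj⟩, congrArg dp (Fin.ext ?_)⟩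
    show pts.getD j 0 = _
    rw [List.getD_eq_getElem _ _ hj, e]
  · rintro ⟨j, rfl⟩
    have h := fixed_ok j
    simp only [Bool.and_eq_true] at h
    have cm : ∀ i : ℕ, (∀ s ∈ [i], s < Fi23.actA.n) → Nat.beq (Fi23.actA.go [i] (ptAt j)) (ptAt j) = true →
        Commute (Fi23.g i) (dp (pt j)) := by
      intro i hi h
      refine commute_dp.2 (Fin.ext ?_)
      rw [show Fi23.g i = ev Fi23.g [i] by simp [ev], Fi23.homA.apply_ev [i] hi]
      exact Nat.eq_of_beq_eq_true h
    have c0 := cm 0 (by decide) h.1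
    have c1 := cm 1 (by decide) h.2
    have hmem : dp (pt j) ∈ classD := range_dp ▸ ⟨_, rfl⟩
    exact ⟨⟨hmem, fun e => g_zero_one (e ▸ c1.symm), c0⟩, hmem, fun e => g_zero_one (e ▸ c0), c1⟩

/-- The generating indices. -/
def base (i : Fin 7) : Fin 351 := ⟨(i : ℕ), by omega⟩

/-- The permutations of the generating transpositions. -/
def sig (i : Fin 7) : Equiv.Perm (Fin 351) :=
  Function.Involutive.toPerm (fun j => ⟨sigAt i j, sig_lt i j⟩) fun j => Fin.ext (sig_inv i j)

theorem derived : ∀ x, Derived base sig x :=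
  derived_of_ok base sig baseAt sigAt (fun _ => rfl) (fun _ _ => rfl) der_ok

theorem group_side : Nonempty (↥(Subgroup.closure common) ⧸ Subgroup.center ↥(Subgroup.closure common) ≃*
    Subgroup.closure (Set.range sig)) := by
  let a : Fin 351 → ↥(Subgroup.closure common) := fun j =>
    ⟨dp (pt j), Subgroup.subset_closure (common_eq ▸ ⟨j, rfl⟩)⟩
  refine nonempty_quot a (fun j k e => pt_inj (dp_injective (congrArg Subtype.val e))) ?_ base sig ?_ derived
  · rw [← (Subgroup.map_injective (Subgroup.closure common).subtype_injective).eq_iff,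
      MonoidHom.map_closure, ← Set.range_comp, ← MonoidHom.range_eq_map, Subgroup.range_subtype]
    show Subgroup.closure (Set.range fun j => dp (pt j)) = _
    rw [common_eq]
  · intro i j
    refine Subtype.ext ?_
    show dp (pt (base i)) * dp (pt j) * (dp (pt (base i)))⁻¹ = dp (pt (sig i j))
    have hlT : ∀ s ∈ tzWord, s < 10 := by decide +kernel
    have hw : ∀ s ∈ gword i, s < 10 := by
      intro s hs
      simp only [gword, List.mem_append, List.mem_reverse] at hs
      rcases hs with (h | h) | h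
      · exact gpath_lt i s h
      · exact hlT s h
      · exact gpath_lt i s h
    have e : ev Fi23.g (gword i) = dp (pt (base i)) := by
      have hp : Fi23.piA (ev Fi23.g (gpath.getD i [])) Fi23.baseA = pt (base i) :=
        Fin.ext ((Fi23.homA.apply_ev _ (gpath_lt i) _).trans (gpath_ok i))
      rw [dp_eq hp, gword, ev_append, ev_append, ev_reverse (fun t _ => Fi23.g_sq t) _ (gpath_lt i)]
      rfl
    rw [← e, ← dp_equivariant]
    exact congrArg dp (Fin.ext ((Fi23.homA.apply_ev _ hw _).trans (conj_ok i j)))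

theorem refl_side : Nonempty (reflectionSubgroup (⇑(sqForm 7)) 1 ⧸
    Subgroup.center (reflectionSubgroup (⇑(sqForm 7)) 1) ≃* Subgroup.closure (Set.range sig)) := by
  refine nonempty_refl_quot (sqForm 7) (by decide) (fun j : Fin 351 => cenAt j) norm_ok ?_ ?_ base sig ?_ derived
  · intro j k h
    have hj := inj_ok j
    have hk := inj_ok k
    refine Fin.ext ?_
    rcases h with h | h <;> rw [h] at hj <;> omega
  · intro u hu
    obtain ⟨c, hc, rfl⟩ := exists_code 7 u
    obtain ⟨h0, h1, h⟩ := all_ok ⟨c, hc⟩ hu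
    have h0' : cenIx.getD c 0 ≠ 0 := h0
    have h1' : cenIx.getD c 0 ≤ 351 := h1
    exact ⟨⟨cenIx.getD c 0 - 1, by omega⟩, h⟩
  · intro i j
    rw [inv_one, one_smul, polar_sq]
    exact refl_ok i j

theorem center_bot : Subgroup.center Spor.Fi23 = ⊥ := by
  haveI := Fi23.isSimple
  rcases (inferInstance : (Subgroup.center Spor.Fi23).Normal).eq_bot_or_eq_top with h | h
  · exact h
  · exact absurd (Subgroup.mem_center_iff.1 (h ▸ Subgroup.mem_top (Fi23.g 1)) (Fi23.g 0)) g_zero_one

theorem isOfTypeM23 : IsOfTypeM23 Spor.Fi23 classD := by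
  refine ⟨center_bot, Fi23.g 0, mem_conjugatesOf_self, Fi23.g 1, g_conj 1 (by decide), g_zero_one, ?_, ?_⟩
  · show IsOfTypeM22 (PerpQuot classD (Fi23.g 0)) (perpSet classD (Fi23.g 0))
    obtain ⟨e, he⟩ := quot_model
    obtain ⟨c, hc⟩ := _root_.isConj_iff.1 tz_conj.symm
    have himg : (MulAut.conj c : Spor.Fi23 ≃* Spor.Fi23) '' classD = classD := by
      ext y
      constructor
      · rintro ⟨x, hx, rfl⟩
        exact hx.trans (_root_.isConj_iff.2 ⟨c, rfl⟩)
      · intro hy
        exact ⟨(MulAut.conj c).symm y, hy.trans (_root_.isConj_iff.2 ⟨c⁻¹, by simp⟩),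
          (MulAut.conj c).apply_symm_apply y⟩
    obtain ⟨σ, hσ⟩ := quot_map (MulAut.conj c : Spor.Fi23 ≃* Spor.Fi23) classD Fi23.tz
    have h1 : IsOfTypeM22 (PerpQuot classD Fi23.tz) (perpSet classD Fi23.tz) :=
      he ▸ m22_map e M22U.TypeOf.isOfTypeM22
    have h2 : IsOfTypeM22 (PerpQuot ((MulAut.conj c : Spor.Fi23 ≃* Spor.Fi23) '' classD) (c * Fi23.tz * c⁻¹))
        (perpSet ((MulAut.conj c : Spor.Fi23 ≃* Spor.Fi23) '' classD) (c * Fi23.tz * c⁻¹)) :=
      hσ ▸ m22_map σ h1
    rwa [himg, hc] at h2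
  · refine ⟨1, by decide, sqForm 7, sq_nondeg 7, by rw [sq_gram]; decide, ?_⟩
    obtain ⟨f⟩ := refl_side
    obtain ⟨g⟩ := group_side
    exact ⟨g.trans f.symm⟩

end Cfsg.Agent.Fus.M23U.TypeOf
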