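import Cfsg.Agent.Lib.Fus.M23U.TypeOf.Data
import Cfsg.Agent.Lib.Fus.M22U.TypeOf.Table
import Cfsg.Agent.Lib.Spor.Cos.Fi23.Trans

/-! Checks on the common neighbours of two transpositions of Fi23. -/

set_option autoImplicit false
set_option maxRecDepth 100000
set_option maxHeartbeats 4000000

open Cfsg.Agent.Spor.Cos

namespace Cfsg.Agent.Fus.M23U.TypeOf

open Cfsg
open Cfsg.Agent.Fus.M22U.TypeOf (sqForm vecOf derOk)

/-- Entry of the list of points. -/
def ptAt (j : ℕ) : ℕ := pts.getD j 0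

/-- Entry of the list of centres. -/
def cenAt (j : ℕ) : Fin 7 → ZMod 3 := vecOf 7 (cen.getD j 0)

/-- The generating index. -/
def baseAt (i : ℕ) : ℕ := i

/-- Entry of the permutation tables. -/
def sigAt (i j : ℕ) : ℕ := (sigT.getD i []).getD j 0

/-- The word of the central involution. -/
def tzWord : List ℕ := Fi23.centralWord.map fun s => Fi23.nine.getD s 10

/-- The word of a generating transposition. -/
def gword (i : ℕ) : List ℕ := gpath.getD i [] ++ tzWord ++ (gpath.getD i []).reverse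

theorem pts_ok : ∀ j : Fin 351, (decide (ptAt j < 31671) && decide (pts.idxOf (ptAt j) = (j : ℕ))) = true := by
  decide +kernel

theorem gpath_lt : ∀ i : Fin 7, ∀ s ∈ gpath.getD i [], s < 10 := by decide +kernel

theorem gpath_ok : ∀ i : Fin 7, Fi23.actA.go (gpath.getD i []) 0 = ptAt i := by decide +kernel

theorem member_ok : ∀ p < 31671,
    (!(Nat.beq (Fi23.actA.im p 0) p && Nat.beq (Fi23.actA.im p 1) p) || pts.contains p) = true := by
  refine of_blocks (size := 2048) (b := 16) (by decide) (by decide) fun j hj => ?_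
  interval_cases j <;> decide +kernel

theorem fixed_ok : ∀ j : Fin 351,
    (Nat.beq (Fi23.actA.go [0] (ptAt j)) (ptAt j) && Nat.beq (Fi23.actA.go [1] (ptAt j)) (ptAt j)) = true := by
  decide +kernel

theorem sig_lt : ∀ (i : Fin 7) (j : Fin 351), sigAt i j < 351 := by decide +kernel

theorem sig_inv : ∀ (i : Fin 7) (j : Fin 351), sigAt i (sigAt i j) = (j : ℕ) := by decide +kernel

theorem conj_ok : ∀ (i : Fin 7) (j : Fin 351), Fi23.actA.go (gword i) (ptAt j) = ptAt (sigAt i j) := by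
  decide +kernel

theorem der_ok : derOk 7 351 baseAt sigAt par = true := by decide +kernel

theorem norm_ok : ∀ j : Fin 351, sqForm 7 (cenAt j) = 1 := by decide +kernel

theorem all_ok : ∀ c : Fin 2187, sqForm 7 (vecOf 7 c) = 1 → cenIx.getD c 0 ≠ 0 ∧ cenIx.getD c 0 ≤ 351 ∧
    (vecOf 7 c = cenAt (cenIx.getD c 0 - 1) ∨ vecOf 7 c = -cenAt (cenIx.getD c 0 - 1)) := by
  decide +kernel

/-- A vector's code. -/
def codeOf (v : Fin 7 → ZMod 3) : ℕ :=
  (v 0).val + 3 * (v 1).val + 9 * (v 2).val + 27 * (v 3).val + 81 * (v 4).val + 243 * (v 5).val + 729 * (v 6).val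

theorem inj_ok : ∀ j : Fin 351, cenIx.getD (codeOf (cenAt j)) 0 = (j : ℕ) + 1 ∧
    cenIx.getD (codeOf (-cenAt j)) 0 = (j : ℕ) + 1 := by
  decide +kernel

theorem refl_ok : ∀ (i : Fin 7) (j : Fin 351),
    cenAt j - (2 * ∑ k, cenAt i k * cenAt j k) • cenAt i = cenAt (sigAt i j) ∨
      cenAt j - (2 * ∑ k, cenAt i k * cenAt j k) • cenAt i = -cenAt (sigAt i j) := by
  decide +kernel

theorem link_ok : chkPow Fi23.actA [0, 1, 2, 3, 4, 5, 6, 8, 9] 1
    (tzWord ++ [7] ++ tzWord ++ [7] ++ tzWord ++ [7]) = true := by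
  decide +kernel

end Cfsg.Agent.Fus.M23U.TypeOf
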