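import Cfsg.Agent.Lib.Spor.Cos.Fi23.Trans
import Cfsg.Agent.Lib.Fus.M22U.Model
import Cfsg.Agent.Lib.Fus.M23U.TypeOf.Checks

/-! Transpositions of the presented Fi23 as points. -/

set_option autoImplicit false
set_option maxRecDepth 100000
set_option maxHeartbeats 2000000

open Cfsg.Agent.Spor.Cos

namespace Cfsg.Agent.Fus.M23U.TypeOf

open Cfsg

/-- The transpositions of the presented group. -/
def classD : Set Spor.Fi23 := conjugatesOf (Fi23.g 0)

theorem braid_conj {G : Type*} [Group G] {a b : G} (ha : a * a = 1) (hb : b * b = 1)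
    (h : a * b * a * b * a * b = 1) : _root_.IsConj a b := by
  have ai : a⁻¹ = a := inv_eq_of_mul_eq_one_right ha
  have bi : b⁻¹ = b := inv_eq_of_mul_eq_one_right hb
  refine _root_.isConj_iff.2 ⟨a * b, ?_⟩
  rw [mul_inv_rev, ai, bi]
  calc a * b * a * (b * a) = (a * b * a * b * a * b) * b⁻¹ := by group
    _ = b := by rw [h, one_mul, bi]

theorem g_conj : ∀ k < 10, _root_.IsConj (Fi23.g 0) (Fi23.g k) := by
  have step : ∀ i j : ℕ, [i, j, i, j, i, j] ∈ Fi23.words → _root_.IsConj (Fi23.g 0) (Fi23.g i) →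
      _root_.IsConj (Fi23.g 0) (Fi23.g j) := by
    intro i j hw hi
    refine hi.trans (braid_conj (Fi23.g_sq i) (Fi23.g_sq j) ?_)
    simpa [ev, mul_assoc] using Fi23.g_words _ hw
  have h0 : _root_.IsConj (Fi23.g 0) (Fi23.g 0) := _root_.IsConj.refl _
  have h1 := step 0 1 (by decide +kernel) h0
  have h2 := step 1 2 (by decide +kernel) h1
  have h3 := step 2 3 (by decide +kernel) h2
  have h4 := step 3 4 (by decide +kernel) h3
  have h5 := step 4 5 (by decide +kernel) h4
  have h6 := step 5 6 (by decide +kernel) h5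
  have h7 := step 6 7 (by decide +kernel) h6
  have h8 := step 3 8 (by decide +kernel) h3
  have h9 := step 8 9 (by decide +kernel) h8
  intro k hk
  interval_cases k
  exacts [h0, h1, h2, h3, h4, h5, h6, h7, h8, h9]

theorem tz_word : Fi23.tz = ev Fi23.g tzWord := rfl

theorem tz_conj : _root_.IsConj (Fi23.g 0) Fi23.tz := by
  refine (g_conj 7 (by decide)).trans (braid_conj Fi23.tz_sq (Fi23.g_sq 7) ?_).symm
  have hl : Act.lettersOk 10 [tzWord ++ [7] ++ tzWord ++ [7] ++ tzWord ++ [7]] = true := by decide +kernel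
  have h := Fi23.eq_one_of_chk hl link_ok
  rw [tz_word]
  simpa [ev_append, ev, mul_assoc] using h

theorem classD_eq : classD = conjugatesOf Fi23.tz := tz_conj.conjugatesOf_eq

/-- The transposition of a point. -/
noncomputable def dp (p : Fin Fi23.actA.N) : Spor.Fi23 :=
  (Fi23.trA p).choose * Fi23.tz * (Fi23.trA p).choose⁻¹

theorem mem_stab_iff {y : Spor.Fi23} : y * Fi23.tz = Fi23.tz * y ↔ Fi23.piA y Fi23.baseA = Fi23.baseA := by
  rw [← Subgroup.mem_centralizer_singleton_iff, Fi23.centralizer_tz, Fi23.mem_val_iff]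

theorem dp_eq {y : Spor.Fi23} {p : Fin Fi23.actA.N} (h : Fi23.piA y Fi23.baseA = p) :
    dp p = y * Fi23.tz * y⁻¹ := by
  have h' : Fi23.piA ((Fi23.trA p).choose⁻¹ * y) Fi23.baseA = Fi23.baseA := by
    rw [map_mul, map_inv, Equiv.Perm.mul_apply, h, Equiv.Perm.inv_eq_iff_eq]
    exact (Fi23.trA p).choose_spec.symm
  have k := mem_stab_iff.2 h'
  set z := (Fi23.trA p).choose
  have e : y = z * (z⁻¹ * y) := by group
  show z * Fi23.tz * z⁻¹ = _
  rw [e, mul_assoc z (z⁻¹ * y), k]
  group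

theorem commute_dp {x : Spor.Fi23} {p : Fin Fi23.actA.N} : Commute x (dp p) ↔ Fi23.piA x p = p := by
  set z := (Fi23.trA p).choose with hz
  have h := (Fi23.trA p).choose_spec
  have e : Commute x (dp p) ↔ (z⁻¹ * x * z) * Fi23.tz = Fi23.tz * (z⁻¹ * x * z) := by
    rw [dp, ← hz]
    constructor
    · intro k
      have := congrArg (fun t => z⁻¹ * t * z) k.eq
      simpa [mul_assoc] using this
    · intro k
      have := congrArg (fun t => z * t * z⁻¹) k
      simp only [mul_assoc, mul_inv_cancel_left, mul_inv_cancel, mul_one] at this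
      show x * (z * Fi23.tz * z⁻¹) = z * Fi23.tz * z⁻¹ * x
      simpa [mul_assoc] using this
  rw [e, mem_stab_iff, map_mul, map_mul, map_inv, Equiv.Perm.mul_apply, Equiv.Perm.mul_apply,
    Equiv.Perm.inv_eq_iff_eq, hz, h]

theorem dp_injective : Function.Injective dp := by
  intro p q e
  have hp := (Fi23.trA p).choose_spec
  have hq := (Fi23.trA q).choose_spec
  set y := (Fi23.trA p).choose
  set z := (Fi23.trA q).choose
  have k : (y⁻¹ * z) * Fi23.tz = Fi23.tz * (y⁻¹ * z) := by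
    have e' : y * Fi23.tz * y⁻¹ = z * Fi23.tz * z⁻¹ := e
    have := congrArg (fun t => y⁻¹ * t * z) e'
    simpa [mul_assoc] using this.symm
  have := mem_stab_iff.1 k
  rw [map_mul, map_inv, Equiv.Perm.mul_apply, hq, Equiv.Perm.inv_eq_iff_eq] at this
  exact (this.trans hp).symm

theorem range_dp : Set.range dp = classD := by
  rw [classD_eq]
  ext d
  constructor
  · rintro ⟨p, rfl⟩
    exact _root_.isConj_iff.2 ⟨_, rfl⟩
  · intro hd
    obtain ⟨y, rfl⟩ := _root_.isConj_iff.1 (show _root_.IsConj Fi23.tz d from hd)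
    exact ⟨_, dp_eq (y := y) rfl⟩

theorem dp_equivariant (y : Spor.Fi23) (p : Fin Fi23.actA.N) : dp (Fi23.piA y p) = y * dp p * y⁻¹ := by
  have h := (Fi23.trA p).choose_spec
  rw [dp_eq (y := y * (Fi23.trA p).choose) (p := Fi23.piA y p) (by rw [map_mul, Equiv.Perm.mul_apply, h]),
    dp, mul_inv_rev]
  group

theorem g_zero_one : ¬ Commute (Fi23.g 0) (Fi23.g 1) := by
  intro h
  have h1 : Fi23.piA (ev Fi23.g [0, 1]) = Fi23.piA (ev Fi23.g [1, 0]) := by
    simp only [ev, mul_one, h.eq]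
  have hne : ∃ p < 31671, Nat.beq (Fi23.actA.go [0, 1] p) (Fi23.actA.go [1, 0] p) = false :=
    ⟨8, by decide, by decide +kernel⟩
  obtain ⟨p, hp, hb⟩ := hne
  have e := congrArg (fun π : Equiv.Perm (Fin Fi23.actA.N) => (π ⟨p, hp⟩ : ℕ)) h1
  simp only [Fi23.homA.apply_ev [0, 1] (by decide), Fi23.homA.apply_ev [1, 0] (by decide)] at e
  rw [e, Nat.beq_refl] at hb
  exact Bool.noConfusion hb

end Cfsg.Agent.Fus.M23U.TypeOf
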