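import Cfsg.Agent.Lib.Fus.M23U.TypeOf.Points
import Cfsg.Agent.Lib.Spor.Cos.Fi23.Cover
import Cfsg.Agent.Lib.Block.FischerTypes.Basic

/-! The transpositions below one transposition of Fi23. -/

set_option autoImplicit false
set_option linter.style.haveILetI false
set_option maxRecDepth 100000
set_option maxHeartbeats 2000000

open Cfsg.Agent.Spor.Cos

namespace Cfsg.Agent.Fus.M23U.TypeOf

open Cfsg Cfsg.Agent.Block.FischerTypes
open Cfsg.Agent.Spor.ThreeTrans (perp)

theorem g_ne_tz (k : ℕ) (hk : k < 9) : Fi23.g (Fi23.nine.getD k 10) ≠ Fi23.tz := by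
  intro h
  have hne : ∃ p < 31671, Nat.beq (Fi23.actA.go [Fi23.nine.getD k 10] p) (Fi23.actA.go tzWord p) = false := by
    interval_cases k <;> exact ⟨1, by decide, by decide +kernel⟩
  obtain ⟨p, hp, hb⟩ := hne
  have h1 : Fi23.piA (ev Fi23.g [Fi23.nine.getD k 10]) = Fi23.piA (ev Fi23.g tzWord) := by
    rw [← tz_word, ← h]; simp [ev]
  have e := congrArg (fun π : Equiv.Perm (Fin Fi23.actA.N) => (π ⟨p, hp⟩ : ℕ)) h1
  have hl : ∀ s ∈ tzWord, s < 10 := by decide +kernel
  have hl1 : ∀ s ∈ [Fi23.nine.getD k 10], s < 10 := by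
    intro s hs
    rw [List.mem_singleton.1 hs]
    interval_cases k <;> decide
  simp only [Fi23.homA.apply_ev _ hl1, Fi23.homA.apply_ev _ hl] at e
  rw [e, Nat.beq_refl] at hb
  exact Bool.noConfusion hb

theorem nine_perp (k : ℕ) (hk : k < 9) : Fi23.g (Fi23.nine.getD k 10) ∈ perp classD Fi23.tz := by
  refine ⟨g_conj _ (by interval_cases k <;> decide), g_ne_tz k hk, ?_⟩
  exact (Fi23.tz_comm _ (Fi23.nine_mem hk)).symm

theorem perp_le : perp classD Fi23.tz ⊆ val Fi23.g Fi23.lv1W := by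
  intro y hy
  show y ∈ val Fi23.g Fi23.lv1W
  rw [← Fi23.centralizer_tz, Subgroup.mem_centralizer_singleton_iff]
  exact hy.2.2.eq.symm

theorem closure_perp : PerpGroup classD Fi23.tz = val Fi23.g Fi23.lv1W := by
  refine le_antisymm ((Subgroup.closure_le _).2 perp_le) ?_
  show Subgroup.closure {y | ∃ w ∈ Fi23.lv1W, ev Fi23.g w = y} ≤ _
  rw [Subgroup.closure_le]
  rintro _ ⟨w, hw, rfl⟩
  obtain ⟨i, hi, rfl⟩ := List.getElem_of_mem hw
  have hi' : i < 9 := hi
  rw [← List.getD_eq_getElem _ [] hi,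
    show Fi23.lv1W.getD i [] = [Fi23.nine.getD i 10] by interval_cases i <;> rfl]
  simp only [ev, mul_one]
  exact Subgroup.subset_closure (nine_perp i hi')

theorem perp_orbit {y : Spor.Fi23} (hy : y ∈ perp classD Fi23.tz) :
    ∃ h ∈ val Fi23.g Fi23.lv1W, y = h * (ev Fi23.g (Fi23.repWord 378) * Fi23.tz *
      (ev Fi23.g (Fi23.repWord 378))⁻¹) * h⁻¹ := by
  obtain ⟨hD, hne, hc⟩ := hy
  rw [classD_eq] at hD
  obtain ⟨c, rfl⟩ := _root_.isConj_iff.1 (show _root_.IsConj Fi23.tz y from hD)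
  rcases Fi23.cases_double c with hc' | ⟨r, hr, h, hh, h', hh', rfl⟩
  · exact absurd (by rw [Fi23.tz_comm c hc', mul_inv_cancel_right]) hne
  have e : h * ev Fi23.g (Fi23.repWord r) * h' * Fi23.tz * (h * ev Fi23.g (Fi23.repWord r) * h')⁻¹ =
      h * (ev Fi23.g (Fi23.repWord r) * Fi23.tz * (ev Fi23.g (Fi23.repWord r))⁻¹) * h⁻¹ := by
    calc _ = h * ev Fi23.g (Fi23.repWord r) * (h' * Fi23.tz) * h'⁻¹ * (ev Fi23.g (Fi23.repWord r))⁻¹ * h⁻¹ := by
          group
      _ = _ := by rw [Fi23.tz_comm h' hh']; group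
  simp only [List.mem_cons, List.not_mem_nil, or_false] at hr
  rcases hr with rfl | rfl
  · exact ⟨h, hh, e⟩
  exfalso
  rw [e] at hc
  have hth : h⁻¹ * Fi23.tz * h = Fi23.tz := by
    rw [mul_assoc, ← Fi23.tz_comm h hh, inv_mul_cancel_left]
  set a := ev Fi23.g (Fi23.repWord 1) * Fi23.tz * (ev Fi23.g (Fi23.repWord 1))⁻¹ with ha
  have hca : Commute Fi23.tz a := by
    have h2 := congrArg (fun t => h⁻¹ * t * h) hc.eq
    show Fi23.tz * a = a * Fi23.tz
    calc Fi23.tz * a = (h⁻¹ * Fi23.tz * h) * a := by rw [hth]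
      _ = h⁻¹ * (Fi23.tz * (h * a * h⁻¹)) * h := by group
      _ = h⁻¹ * (h * a * h⁻¹ * Fi23.tz) * h := h2
      _ = a * (h⁻¹ * Fi23.tz * h) := by group
      _ = a * Fi23.tz := by rw [hth]
  have haa : a * a = 1 := by
    calc a * a = ev Fi23.g (Fi23.repWord 1) * (Fi23.tz * Fi23.tz) * (ev Fi23.g (Fi23.repWord 1))⁻¹ := by
          rw [ha]; group
      _ = 1 := by rw [Fi23.tz_sq]; group
  have hp : ev Fi23.g (Fi23.pairWord 1 ++ Fi23.pairWord 1) = 1 := by
    rw [ev_append, Fi23.ev_pairWord 1 (by decide)]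
    show a * Fi23.tz * (a * Fi23.tz) = 1
    calc a * Fi23.tz * (a * Fi23.tz) = a * (Fi23.tz * a) * Fi23.tz := by simp only [mul_assoc]
      _ = a * a * (Fi23.tz * Fi23.tz) := by rw [hca.eq]; simp only [mul_assoc]
      _ = 1 := by rw [haa, Fi23.tz_sq, one_mul]
  have hne2 : ∃ p < 31671, Nat.beq (Fi23.actA.go (Fi23.pairWord 1 ++ Fi23.pairWord 1) p) p = false := by
    exact ⟨0, by decide, by decide +kernel⟩
  obtain ⟨p, hp', hb⟩ := hne2
  have e2 := Fi23.homA.apply_ev (Fi23.pairWord 1 ++ Fi23.pairWord 1) (by decide +kernel) ⟨p, hp'⟩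
  rw [hp, map_one, Equiv.Perm.one_apply] at e2
  rw [← e2] at hb
  exact Bool.noConfusion ((Nat.beq_refl p).symm.trans hb)

/-- All members below one transposition are conjugate to the first generator in its centraliser. -/
theorem perp_conj {y : Spor.Fi23} (hy : y ∈ perp classD Fi23.tz) :
    ∃ h ∈ val Fi23.g Fi23.lv1W, y = h * Fi23.g 0 * h⁻¹ := by
  obtain ⟨h, hh, e⟩ := perp_orbit hy
  obtain ⟨k, hk, e0⟩ := perp_orbit (nine_perp 0 (by decide))
  refine ⟨h * k⁻¹, mul_mem hh (inv_mem hk), ?_⟩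
  rw [e, show Fi23.g 0 = Fi23.g (Fi23.nine.getD 0 10) from rfl, e0]
  group

/-- Membership in the group below. -/
theorem mem_below (k : ℕ) (hk : k < 9) : Fi23.g (Fi23.nine.getD k 10) ∈ PerpGroup classD Fi23.tz :=
  Subgroup.subset_closure (nine_perp k hk)

/-- The nine generators inside the group below. -/
noncomputable def low (s : ℕ) : ↥(PerpGroup classD Fi23.tz) := if hs : s < 9 then ⟨_, mem_below s hs⟩ else 1

theorem low_coe {s : ℕ} (hs : s < 9) : (low s : Spor.Fi23) = Fi23.g (Fi23.nine.getD s 10) := by simp [low, hs]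

theorem ev_low : ∀ w : List ℕ, (∀ s ∈ w, s < 9) →
    ((ev low w : ↥(PerpGroup classD Fi23.tz)) : Spor.Fi23) = ev Fi23.g (w.map fun s => Fi23.nine.getD s 10)
  | [], _ => rfl
  | s :: w, h => by
    simp only [ev, List.map_cons, Subgroup.coe_mul, low_coe (h s (List.mem_cons_self ..)),
      ev_low w fun t ht => h t (List.mem_cons_of_mem _ ht)]

/-- Below a transposition the presented Fi22 appears, with its transpositions. -/
theorem quot_model : ∃ e : Spor.Fi22 ≃* PerpQuot classD Fi23.tz,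
    e '' M22U.classD = perpSet classD Fi23.tz := by
  classical
  haveI := Fi23.finite
  haveI := Fi22.finite
  have hcov : IsNonsplitDoubleCover ↥(PerpGroup classD Fi23.tz) Spor.Fi22 := by
    rw [closure_perp]; exact Fi23.isNonsplitDoubleCover
  obtain ⟨-, ⟨q⟩, -⟩ := hcov
  let mk : ↥(PerpGroup classD Fi23.tz) →* PerpQuot classD Fi23.tz := QuotientGroup.mk' _
  let σ : ℕ → PerpQuot classD Fi23.tz := fun s => mk (low s)
  have hlow : ∀ s, low s * low s = 1 := fun s => by
    by_cases hs : s < 9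
    · exact Subtype.ext (by simp [low_coe hs, Fi23.g_sq])
    · simp [low, hs]
  have hcz : ev low Fi23.centralWord ∈ Subgroup.center ↥(PerpGroup classD Fi23.tz) := by
    refine Subgroup.mem_center_iff.2 fun u => Subtype.ext ?_
    rw [Subgroup.coe_mul, Subgroup.coe_mul, ev_low _ (by decide +kernel)]
    exact Fi23.tz_comm _ (closure_perp ▸ u.2)
  have hbσ : ∀ w ∈ Fi22.words, ev σ w = 1 := by
    intro w hw
    rw [show ev σ w = mk (ev low w) from (ev_map mk low w).symm]
    by_cases hc : w = Fi23.centralWord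
    · rw [hc]
      exact (QuotientGroup.eq_one_iff _).2 hcz
    · have hl : Act.lettersOk 9 Fi22.words = true := by decide +kernel
      have hd : (Fi22.words.all fun r => r == Fi23.centralWord ||
          derivedOk 10 Fi23.words (r.map fun s => Fi23.nine.getD s 10)) = true := by decide +kernel
      have h := List.all_eq_true.1 hd w hw
      simp only [beq_eq_false_iff_ne.2 hc, Bool.false_or] at h
      rw [show ev low w = 1 from Subtype.ext ((ev_low w (Act.lt_of_lettersOk hl hw)).trans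
        (ev_derived (fun t _ => Fi23.g_sq t) Fi23.g_words h)), map_one]
  obtain ⟨φ, hφ⟩ := Fi22.pres.exists_hom σ (fun s => by simp only [σ, ← map_mul, hlow, map_one]) hbσ
    (fun s hs => by
      have : ¬ s < 9 := Nat.not_lt.2 hs
      simp only [σ, low, dif_neg this, map_one])
  have hφ' : ∀ s, φ (Fi22.g s) = σ s := hφ
  have hgen : Subgroup.closure {x | ∃ s, s < 9 ∧ low s = x} = ⊤ := by
    rw [← (Subgroup.map_injective (PerpGroup classD Fi23.tz).subtype_injective).eq_iff, MonoidHom.map_closure,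
      ← MonoidHom.range_eq_map, Subgroup.range_subtype]
    refine le_antisymm ((Subgroup.closure_le _).2 ?_) ?_
    · rintro _ ⟨x, -, rfl⟩
      exact x.2
    · refine le_trans closure_perp.le ?_
      show Subgroup.closure {y | ∃ w ∈ Fi23.lv1W, ev Fi23.g w = y} ≤ _
      rw [Subgroup.closure_le]
      rintro _ ⟨w, hw, rfl⟩
      obtain ⟨i, hi, rfl⟩ := List.getElem_of_mem hw
      have hi' : i < 9 := hi
      refine Subgroup.subset_closure ⟨_, ⟨i, hi', rfl⟩, ?_⟩
      rw [Subgroup.coe_subtype, low_coe hi', ← List.getD_eq_getElem _ [] hi,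
        show Fi23.lv1W.getD i [] = [Fi23.nine.getD i 10] by interval_cases i <;> rfl]
      simp [ev]
  have hsurj : Function.Surjective φ := by
    rw [← MonoidHom.range_eq_top, eq_top_iff,
      ← Subgroup.map_top_of_surjective mk (QuotientGroup.mk'_surjective _), ← hgen,
      MonoidHom.map_closure, Subgroup.closure_le]
    rintro _ ⟨_, ⟨s, -, rfl⟩, rfl⟩
    exact ⟨Fi22.g s, hφ' s⟩
  have hbij : Function.Bijective φ :=
    (Nat.bijective_iff_surjective_and_card φ).2 ⟨hsurj, (Nat.card_congr q.toEquiv).symm⟩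
  refine ⟨MulEquiv.ofBijective φ hbij, Set.ext fun t => ?_⟩
  have hg0 : Fi23.g (Fi23.nine.getD 0 10) = Fi23.g 0 := rfl
  constructor
  · rintro ⟨x, hx, rfl⟩
    obtain ⟨u, rfl⟩ := _root_.isConj_iff.1 (show _root_.IsConj (Fi22.g 0) x from hx)
    obtain ⟨v, hv⟩ := QuotientGroup.mk'_surjective _ (φ u)
    refine ⟨v * low 0 * v⁻¹, ?_, ?_⟩
    · show ((v * low 0 * v⁻¹ : ↥(PerpGroup classD Fi23.tz)) : Spor.Fi23) ∈ perp classD Fi23.tz
      rw [Subgroup.coe_mul, Subgroup.coe_mul, Subgroup.coe_inv, low_coe (by decide), hg0]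
      obtain ⟨hD, hne, hc⟩ := nine_perp 0 (by decide)
      rw [hg0] at hD hne hc
      have hv' : (v : Spor.Fi23) ∈ val Fi23.g Fi23.lv1W := closure_perp ▸ v.2
      have ht : (v : Spor.Fi23) * Fi23.tz * (v : Spor.Fi23)⁻¹ = Fi23.tz := by
        rw [Fi23.tz_comm _ hv', mul_inv_cancel_right]
      refine ⟨hD.trans (_root_.isConj_iff.2 ⟨v, rfl⟩), fun e => hne ?_, ?_⟩
      · exact mul_left_cancel (mul_right_cancel (e.trans ht.symm))
      · have := hc.map (MulAut.conj (v : Spor.Fi23))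
        simpa only [MulAut.conj_apply, ht] using this
    · show mk (v * low 0 * v⁻¹) = φ (u * Fi22.g 0 * u⁻¹)
      rw [map_mul, map_mul, map_inv, map_mul, map_mul, map_inv, hφ', show mk v = φ u from hv]
  · rintro ⟨x, hx, rfl⟩
    obtain ⟨h, hh, e⟩ := perp_conj (show (x : Spor.Fi23) ∈ perp classD Fi23.tz from hx)
    have hh' : h ∈ PerpGroup classD Fi23.tz := closure_perp.symm ▸ hh
    obtain ⟨u, hu⟩ := hsurj (mk ⟨h, hh'⟩)
    refine ⟨u * Fi22.g 0 * u⁻¹, _root_.isConj_iff.2 ⟨u, rfl⟩, ?_⟩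
    show φ (u * Fi22.g 0 * u⁻¹) = mk x
    rw [map_mul, map_mul, map_inv, hu, hφ', show x = ⟨h, hh'⟩ * low 0 * ⟨h, hh'⟩⁻¹ from
      Subtype.ext (by rw [Subgroup.coe_mul, Subgroup.coe_mul, Subgroup.coe_inv, low_coe (by decide), hg0]; exact e),
      map_mul, map_mul, map_inv]

end Cfsg.Agent.Fus.M23U.TypeOf
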